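import Mathlib
import Cfsg.Agent.Helper28.S5704SDefs
import Cfsg.Agent.Helper24.S5637.Defs

set_option autoImplicit false
set_option linter.unusedSectionVars false
set_option linter.unusedVariables false

/-! # S5704 (`Sp_a ⊗ Sp_b` maximal in `Ω⁺_{ab}`): definitions of the middle chapters (driver helper24)

Standard position `P = 1`: pure tensors are `tn e u w` (`= pt e 1 u w`), `Kr e` is the Kronecker subgroup,
`M : Subgroup (GL (Fin n) F)` with `Kr e ⊓ omegaGL ⇑Q ≤ M ≤ omegaGL ⇑Q`.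
`psi GW z = GW *ᵥ z` is the functional `w ↦ bf GW w z`.
Root elements `XW z c = 1 ⊗ t_{z,c}`, `XU u c = t_{u,c} ⊗ 1`.
`RadAt z g`: `g` lies in the unipotent radical `Q_z` of the stabiliser of `V_z = U ⊗ z`.
`BAD M`: `M` has an element of some `Q_z` which is not a Kronecker product. -/

namespace Cfsg.Agent.S5704P

open Matrix Cfsg.Agent.S5637P Cfsg.Agent.S5704S Cfsg.Agent.S5634P

variable {F : Type*} [Field F] {n a b : ℕ} (e : Fin n ≃ Fin a × Fin b)

theorem pt_one (u : Fin a → F) (w : Fin b → F) :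
    pt e (1 : Matrix (Fin n) (Fin n) F) u w = tn e u w := by
  unfold pt; rw [Matrix.one_mulVec]

/-- the functional `w ↦ bf G w z`, as a vector -/
def psi {m : ℕ} (G : Matrix (Fin m) (Fin m) F) (z : Fin m → F) : Fin m → F := G *ᵥ z

theorem psi_dot {m : ℕ} (G : Matrix (Fin m) (Fin m) F) (z w : Fin m → F) :
    psi G z ⬝ᵥ w = bf G w z := by
  unfold psi bf; rw [dotProduct_comm]

theorem psi_dot_self {m : ℕ} {G : Matrix (Fin m) (Fin m) F} (hG : IsSymp G) (z : Fin m → F) :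
    psi G z ⬝ᵥ z = 0 := by
  rw [psi_dot, hG.alt]

theorem psi_add {m : ℕ} (G : Matrix (Fin m) (Fin m) F) (z z' : Fin m → F) :
    psi G (z + z') = psi G z + psi G z' := by
  unfold psi; rw [mulVec_add]

theorem psi_smul {m : ℕ} (G : Matrix (Fin m) (Fin m) F) (c : F) (z : Fin m → F) :
    psi G (c • z) = c • psi G z := by
  unfold psi; rw [mulVec_smul]

/-- the root element `1 ⊗ t_{z,c}`, `t_{z,c} w = w + c (bf GW w z) z` -/
noncomputable def XW (GW : Matrix (Fin b) (Fin b) F) (z : Fin b → F) (c : F) : GL (Fin n) F :=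
  XR e z (c • psi GW z)

/-- the root element `t_{u,c} ⊗ 1`, `t_{u,c} u' = u' + c (bf GU u' u) u` -/
noncomputable def XU (GU : Matrix (Fin a) (Fin a) F) (u : Fin a → F) (c : F) : GL (Fin n) F :=
  krg e (EE u (c • psi GU u)) (1 : GL (Fin b) F)

theorem XW_mulVec_tn {GW : Matrix (Fin b) (Fin b) F} (hW : IsSymp GW) (z : Fin b → F) (c : F)
    (u : Fin a → F) (w : Fin b → F) :
    ((XW e GW z c : GL (Fin n) F) : Matrix (Fin n) (Fin n) F) *ᵥ tn e u w =
      tn e u (w + (c * bf GW w z) • z) := by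
  have h : (c • psi GW z) ⬝ᵥ z = 0 := by
    rw [smul_dotProduct, psi_dot_self hW, smul_zero]
  unfold XW
  rw [XR_mulVec_tn e h, smul_dotProduct, psi_dot, smul_eq_mul]

theorem XW_mulVec {GW : Matrix (Fin b) (Fin b) F} (hW : IsSymp GW) (z : Fin b → F) (c : F)
    (x : Fin n → F) :
    ((XW e GW z c : GL (Fin n) F) : Matrix (Fin n) (Fin n) F) *ᵥ x =
      x + c • tn e (cps e (psi GW z) x) z := by
  have h : (c • psi GW z) ⬝ᵥ z = 0 := by
    rw [smul_dotProduct, psi_dot_self hW, smul_zero]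
  unfold XW
  rw [XR_mulVec e h, cps_smul, tn_smul_left]

theorem XW_mem_Kr {GW : Matrix (Fin b) (Fin b) F} (hW : IsSymp GW) (z : Fin b → F) (c : F) :
    XW e GW z c ∈ Kr e := by
  have h : (c • psi GW z) ⬝ᵥ z = 0 := by
    rw [smul_dotProduct, psi_dot_self hW, smul_zero]
  exact XR_mem_Kr e h

theorem XU_mulVec_tn {GU : Matrix (Fin a) (Fin a) F} (hU : IsSymp GU) (u : Fin a → F) (c : F)
    (u' : Fin a → F) (w : Fin b → F) :
    ((XU e GU u c : GL (Fin n) F) : Matrix (Fin n) (Fin n) F) *ᵥ tn e u' w =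
      tn e (u' + (c * bf GU u' u) • u) w := by
  have h : (c • psi GU u) ⬝ᵥ u = 0 := by
    rw [smul_dotProduct, psi_dot_self hU, smul_zero]
  unfold XU
  rw [krg_mulVec_tn, Units.val_one, Matrix.one_mulVec, EE_mulVec0 h, smul_dotProduct, psi_dot,
    smul_eq_mul]

theorem XU_mem_Kr (GU : Matrix (Fin a) (Fin a) F) (u : Fin a → F) (c : F) :
    XU e GU u c ∈ Kr e := krg_mem_Kr e _ _

/-- `g` lies in the unipotent radical `Q_z` of the stabiliser of `V_z = U ⊗ z`: it fixes `V_z` pointwise and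
moves `V_z^⊥ = U ⊗ z^⊥` only along `V_z` -/
def RadAt (GW : Matrix (Fin b) (Fin b) F) (z : Fin b → F) (g : GL (Fin n) F) : Prop :=
  (∀ u : Fin a → F, (g : Matrix (Fin n) (Fin n) F) *ᵥ tn e u z = tn e u z) ∧
    ∀ (u : Fin a → F) (w : Fin b → F), bf GW w z = 0 →
      ∃ u' : Fin a → F, (g : Matrix (Fin n) (Fin n) F) *ᵥ tn e u w - tn e u w = tn e u' z

/-- `M` contains an element of some `Q_z` which is not a Kronecker product -/
def BAD (GW : Matrix (Fin b) (Fin b) F) (M : Subgroup (GL (Fin n) F)) : Prop :=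
  ∃ z : Fin b → F, z ≠ 0 ∧ ∃ g : GL (Fin n) F, g ∈ M ∧ RadAt e GW z g ∧ g ∉ Kr e

/-- the subgroup of the isometry group corresponding to `M ≤ GL` (to state `InM`) -/
def MO (Q : QuadraticForm F (Fin n → F)) (M : Subgroup (GL (Fin n) F)) :
    Subgroup ↥(Cfsg.isometryGroup F ⇑Q) :=
  M.comap (Cfsg.isometryGroup F ⇑Q).subtype

/-- family (A): all `ρ(u ⊗ w, u' ⊗ w)`, `u ⊥ u'` -/
def FamA (Q : QuadraticForm F (Fin n → F)) (GU : Matrix (Fin a) (Fin a) F)
    (M : Subgroup (GL (Fin n) F)) : Prop :=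
  ∀ (u u' : Fin a → F) (w : Fin b → F), bf GU u u' = 0 →
    InM Q (MO Q M) (pt e 1 u w) (pt e 1 u' w)

/-- family (B): all `ρ(u ⊗ w, u ⊗ w')`, `w ⊥ w'` -/
def FamB (Q : QuadraticForm F (Fin n → F)) (GW : Matrix (Fin b) (Fin b) F)
    (M : Subgroup (GL (Fin n) F)) : Prop :=
  ∀ (u : Fin a → F) (w w' : Fin b → F), bf GW w w' = 0 →
    InM Q (MO Q M) (pt e 1 u w) (pt e 1 u w')

end Cfsg.Agent.S5704P
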