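import Cfsg.Agent.Helper24.S5704.Main1
import Cfsg.Agent.Helper17.S5704.STAsm
import Cfsg.Agent.Helper26.S5704ROOTS
import Cfsg.Agent.Helper28.S5704SPREAD
import Cfsg.Agent.Helper28.S5704BORTH
import Cfsg.Agent.Helper28.S5704BRIDGE
import Cfsg.Agent.Helper9.S5704SSYMPBASIS
import Cfsg.Agent.Helper15.S5704SEEDDefs

set_option autoImplicit false
set_option linter.unusedSectionVars false
set_option linter.unusedVariables false

/-! # S5704: final assembly (helper24), modulo chapter SEED (hypothesis `hSEED`) -/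

namespace Cfsg.Agent.S5704P

open Matrix Cfsg.Agent.S5637P Cfsg.Agent.S5704S Cfsg.Agent.S5634P

variable {F : Type*} [Field F] {n a b : ℕ} (e : Fin n ≃ Fin a × Fin b)

/-- the shape of the chapter SEED -/
def SeedHyp [Fintype F] : Prop :=
  ∀ (Q : QuadraticForm F (Fin n → F)) (GU : Matrix (Fin a) (Fin a) F)
    (GW : Matrix (Fin b) (Fin b) F) (M : Subgroup (GL (Fin n) F)),
    Ctx e Q GU GW M → BAD e GW M → (4 ≤ a ∧ FamA e Q GU M) ∨ FamB e Q GW M

/-- the numerology -/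
theorem FINAL.dims (e' : Fin n ≃ Fin a × Fin b) {GU : Matrix (Fin a) (Fin a) F}
    {GW : Matrix (Fin b) (Fin b) F} (hU : IsSymp GU) (hW : IsSymp GW) (hn : 13 ≤ n) (hab : a < b) :
    2 ≤ a ∧ (a = 2 ∨ 4 ≤ a) ∧ a + 2 ≤ b ∧ 5 ≤ b := by
  have hcard : n = a * b := by
    have := Fintype.card_congr e'
    rwa [Fintype.card_fin, Fintype.card_prod, Fintype.card_fin, Fintype.card_fin] at this
  obtain ⟨k, -, -, hk, -⟩ := SYMPBASIS.exists hU
  obtain ⟨l, -, -, hl, -⟩ := SYMPBASIS.exists hW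
  have hk0 : k ≠ 0 := by
    rintro rfl
    rw [hk] at hcard
    omega
  have h2 : 2 ≤ a := by omega
  have h3 : a + 2 ≤ b := by omega
  refine ⟨h2, by omega, h3, ?_⟩
  by_contra h5
  have hb4 : b = 4 := by omega
  have ha2 : a = 2 := by omega
  rw [ha2, hb4] at hcard
  omega

/-- maximality in standard position -/
theorem FINAL.std [Fintype F] (hS : SeedHyp (F := F) e) {Q : QuadraticForm F (Fin n → F)}
    (hQ : (QuadraticMap.polarBilin Q).Nondegenerate) (hn : 13 ≤ n)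
    {GU : Matrix (Fin a) (Fin a) F} {GW : Matrix (Fin b) (Fin b) F}
    (hT : TData Q e (1 : Matrix (Fin n) (Fin n) F) GU GW) (hab : a < b) :
    Cfsg.Geo.IsMaximalIn (Cfsg.Geo.omegaGL ⇑Q) (Kr e ⊓ Cfsg.Geo.omegaGL ⇑Q) := by
  obtain ⟨ha2, ha', hab2, hb5⟩ := FINAL.dims e hT.sympU hT.sympW hn hab
  have hn8 : 8 ≤ n := by omega
  have hb4 : 4 ≤ b := by omega
  have hXW : ∀ (z : Fin b → F) (c : F), XW e GW z c ∈ Cfsg.Geo.omegaGL ⇑Q := fun z c =>
    ROOTS.XW_mem_omega e hQ hn8 hT z c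
  have hQZ : ∀ (g : GL (Fin n) F) (z : Fin b → F), z ≠ 0 → g ∈ Cfsg.isometryGroup F ⇑Q →
      RadAt e GW z g → g ∈ Cfsg.Geo.omegaGL ⇑Q := fun g z _ hg hr =>
    ROOTS.radAt_mem_omega e hQ hn8 hT z g ((Cfsg.Agent.Helper28.IsoTransport.mem_isometryGroup_iff _ _).1 hg) hr
  refine MAIN1 e hQ hn8 hT (by omega) hab hab2 hXW ?_ ?_
  · intro M hHM hMO hB z z' hz hz' y hy hyz
    exact STARP.main e hT ha2 hb4 M hHM hMO hXW hQZ hB hy hz hz' hyz
  · intro M hHM hMO hB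
    have hC : Ctx e Q GU GW M := ⟨hT, hQ, hn8, ha', hb4, hHM, hMO⟩
    rcases hS Q GU GW M hC hB with ⟨ha4, hA⟩ | hB'
    · exact GLUE.omegaGL_le hQ hn8 M (SPREAD.main_A hT ha4 hb4 hA)
    · exact GLUE.omegaGL_le hQ hn8 M (SPREAD.main_Borth hT ha' hb5 hB')

/-- the frozen statement, modulo chapter SEED -/
theorem FINAL.frozen [Fintype F] (hS : SeedHyp (F := F) e) (hn : 13 ≤ n) (Q : (Fin n → F) → F)
    (hQ : Cfsg.Geo.IsNondegenerateQuadraticForm Q) (hab : a < b)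
    (P : Matrix.GeneralLinearGroup (Fin n) F)
    (f₁ : (Fin a → F) → (Fin a → F) → F) (f₂ : (Fin b → F) → (Fin b → F) → F)
    (hf₁ : Cfsg.Geo.IsSymplecticForm f₁) (hf₂ : Cfsg.Geo.IsSymplecticForm f₂)
    (hT : Cfsg.Geo.IsTensorFormStructure id (QuadraticMap.polar Q) f₁ f₂ e P)
    (hpure : ∀ (x₁ : Fin a → F) (x₂ : Fin b → F),
      Q (Matrix.mulVec (P : Matrix (Fin n) (Fin n) F)
        ((fun p : Fin a × Fin b => x₁ p.1 * x₂ p.2) ∘ e)) = 0) :
    Cfsg.Geo.IsMaximalIn (Cfsg.Geo.omegaGL Q)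
      (Cfsg.Geo.tensorProductSubgroup a b e P ⊓ Cfsg.Geo.omegaGL Q) := by
  obtain ⟨c, hc, hTD⟩ := BRIDGE.tdata Q hQ e P f₁ f₂ hf₁ hf₂ hT hpure
  set Q' : QuadraticForm F (Fin n → F) := Cfsg.Agent.Helper28.NM.ofFun Q hQ with hQ'
  have hQ'nd := Cfsg.Agent.Helper28.NM.ofFun_nondeg Q hQ
  set Q₁ : QuadraticForm F (Fin n → F) :=
    Q'.comp (Matrix.toLin' (P : Matrix (Fin n) (Fin n) F)) with hQ₁
  have hQ₁app : ∀ x : Fin n → F, Q₁ x = Q ((P : Matrix (Fin n) (Fin n) F) *ᵥ x) := by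
    intro x
    rw [hQ₁, QuadraticMap.comp_apply, Matrix.toLin'_apply]
    rfl
  have hpol : ∀ x y : Fin n → F, QuadraticMap.polar ⇑Q₁ x y =
      QuadraticMap.polar ⇑Q' ((P : Matrix (Fin n) (Fin n) F) *ᵥ x)
        ((P : Matrix (Fin n) (Fin n) F) *ᵥ y) := by
    intro x y
    unfold QuadraticMap.polar
    rw [hQ₁app, hQ₁app, hQ₁app, Matrix.mulVec_add]
    rfl
  have hPinv : ∀ y : Fin n → F, (P : Matrix (Fin n) (Fin n) F) *ᵥ
      (((P⁻¹ : GL (Fin n) F) : Matrix (Fin n) (Fin n) F) *ᵥ y) = y := by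
    intro y
    rw [Matrix.mulVec_mulVec, ← Units.val_mul, mul_inv_cancel, Units.val_one, Matrix.one_mulVec]
  have hPinj : ∀ x : Fin n → F, (P : Matrix (Fin n) (Fin n) F) *ᵥ x = 0 → x = 0 := by
    intro x hx
    have := congrArg (fun v => ((P⁻¹ : GL (Fin n) F) : Matrix (Fin n) (Fin n) F) *ᵥ v) hx
    simpa only [Matrix.mulVec_mulVec, ← Units.val_mul, inv_mul_cancel, Units.val_one,
      Matrix.one_mulVec, Matrix.mulVec_zero] using this
  have hQ₁nd : (QuadraticMap.polarBilin Q₁).Nondegenerate := by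
    constructor
    · intro x hx
      apply hPinj
      apply hQ'nd.1
      intro y
      have := hx (((P⁻¹ : GL (Fin n) F) : Matrix (Fin n) (Fin n) F) *ᵥ y)
      rw [QuadraticMap.polarBilin_apply_apply, hpol, hPinv] at this
      rw [QuadraticMap.polarBilin_apply_apply]
      exact this
    · intro x hx
      apply hPinj
      apply hQ'nd.2
      intro y
      have := hx (((P⁻¹ : GL (Fin n) F) : Matrix (Fin n) (Fin n) F) *ᵥ y)
      rw [QuadraticMap.polarBilin_apply_apply, hpol, hPinv] at this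
      rw [QuadraticMap.polarBilin_apply_apply]
      exact this
  have hT₁ : TData Q₁ e (1 : Matrix (Fin n) (Fin n) F) (c • Cfsg.Geo.gramMatrix f₁)
      (Cfsg.Geo.gramMatrix f₂) := by
    refine ⟨isUnit_one, hTD.sympU, hTD.sympW, ?_, ?_⟩
    · intro u w
      rw [hQ₁app, pt_one]
      exact hTD.sing u w
    · intro u w u' w'
      rw [hpol, pt_one, pt_one]
      exact hTD.pol u w u' w'
  have hmax := FINAL.std e hS hQ₁nd hn hT₁ hab
  exact REDUCE e Q ⇑Q₁ P (fun x => (hQ₁app x).symm) hmax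

end Cfsg.Agent.S5704P
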