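import Cfsg.Agent.Helper24.S5704.NoTrans
import Cfsg.Agent.Helper28.S5704GLUE
import Cfsg.Agent.Helper10.S5704PROPER
import Cfsg.Agent.Helper3.S5702REDUCE

set_option autoImplicit false
set_option linter.unusedSectionVars false
set_option linter.unusedVariables false

/-! # S5704: the maximality statement in standard position from the chapter theorems, and the reduction to
standard position (helper24) -/

namespace Cfsg.Agent.S5704P

open Matrix Cfsg.Agent.S5637P Cfsg.Agent.S5704S Cfsg.Agent.S5634P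

variable {F : Type*} [Field F] {n a b : ℕ} (e : Fin n ≃ Fin a × Fin b)

/-- MAIN1: maximality in standard position, from chapters STAR' (`hSTAR`), SEED + SPREAD (`hBAD`), ROOTS
(`hXW`) -/
theorem MAIN1 [Fintype F] {Q : QuadraticForm F (Fin n → F)}
    (hQ : (QuadraticMap.polarBilin Q).Nondegenerate) (hn : 8 ≤ n)
    {GU : Matrix (Fin a) (Fin a) F} {GW : Matrix (Fin b) (Fin b) F}
    (hT : TData Q e (1 : Matrix (Fin n) (Fin n) F) GU GW) (ha : 1 ≤ a) (hab : a < b)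
    (hab2 : a + 2 ≤ b)
    (hXW : ∀ (z : Fin b → F) (c : F), XW e GW z c ∈ Cfsg.Geo.omegaGL ⇑Q)
    (hSTAR : ∀ M : Subgroup (GL (Fin n) F), Kr e ⊓ Cfsg.Geo.omegaGL ⇑Q ≤ M →
      M ≤ Cfsg.Geo.omegaGL ⇑Q → ¬ BAD e GW M →
      ∀ z z' : Fin b → F, z ≠ 0 → z' ≠ 0 → ∀ y : GL (Fin n) F, y ∈ M →
        gmap y (Vw e z) = Vw e z' → y ∈ Kr e)
    (hBAD : ∀ M : Subgroup (GL (Fin n) F), Kr e ⊓ Cfsg.Geo.omegaGL ⇑Q ≤ M →
      M ≤ Cfsg.Geo.omegaGL ⇑Q → BAD e GW M → Cfsg.Geo.omegaGL ⇑Q ≤ M) :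
    Cfsg.Geo.IsMaximalIn (Cfsg.Geo.omegaGL ⇑Q) (Kr e ⊓ Cfsg.Geo.omegaGL ⇑Q) := by
  refine ⟨lt_of_le_of_ne inf_le_right ?_, ?_⟩
  · intro heq
    obtain ⟨g, hg, hgK⟩ := PROPERLT.main_one hQ hn hT hab
    rw [← heq] at hg
    exact hgK hg.1
  · intro M hHM hMO
    by_cases hB : BAD e GW M
    · right
      exact le_antisymm hMO (hBAD M hHM hMO hB)
    · left
      have hroots : ∀ (z : Fin b → F) (c : F), XW e GW z c ∈ M := fun z c =>
        hHM ⟨XW_mem_Kr e hT.sympW z c, hXW z c⟩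
      have hK : M ≤ Kr e :=
        NOTRANS.main e ha hab hab2 hT.sympW M hroots (hSTAR M hHM hMO hB)
      exact le_antisymm (le_inf hK hMO) hHM

/-- the tensor product subgroup is the conjugate of `Kr e` -/
theorem map_conj_Kr (P : GL (Fin n) F) :
    (Kr e).map (MulAut.conj P).toMonoidHom = Cfsg.Geo.tensorProductSubgroup a b e P := by
  ext g
  rw [mem_tensor_iff, Subgroup.mem_map]
  constructor
  · rintro ⟨k, hk, rfl⟩
    have : P⁻¹ * ((MulAut.conj P).toMonoidHom k) * P = k := by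
      show P⁻¹ * (P * k * P⁻¹) * P = k
      group
    rw [this]
    exact hk
  · intro h
    refine ⟨P⁻¹ * g * P, h, ?_⟩
    show P * (P⁻¹ * g * P) * P⁻¹ = g
    group

/-- REDUCE: maximality in standard position for `Q₁ = Q ∘ P` gives the statement for `Q` and `P` -/
theorem REDUCE (Q Q₁ : (Fin n → F) → F) (P : GL (Fin n) F)
    (hP : ∀ x : Fin n → F, Q ((P : Matrix (Fin n) (Fin n) F) *ᵥ x) = Q₁ x)
    (h : Cfsg.Geo.IsMaximalIn (Cfsg.Geo.omegaGL Q₁) (Kr e ⊓ Cfsg.Geo.omegaGL Q₁)) :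
    Cfsg.Geo.IsMaximalIn (Cfsg.Geo.omegaGL Q)
      (Cfsg.Geo.tensorProductSubgroup a b e P ⊓ Cfsg.Geo.omegaGL Q) := by
  have h1 := Cfsg.Agent.S5702P.REDUCE.isMaximalIn_map_equiv (MulAut.conj P) _ _ h
  have e1 : (Cfsg.Geo.omegaGL Q₁).map (MulAut.conj P).toMonoidHom = Cfsg.Geo.omegaGL Q :=
    Cfsg.Agent.S5702P.REDUCE.map_conj_omegaGL₂ Q Q₁ P 1 one_ne_zero
      (fun x => by rw [hP, one_mul])
  have e2 : (Kr e ⊓ Cfsg.Geo.omegaGL Q₁).map (MulAut.conj P).toMonoidHom =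
      Cfsg.Geo.tensorProductSubgroup a b e P ⊓ Cfsg.Geo.omegaGL Q := by
    rw [Subgroup.map_inf _ _ _ (MulAut.conj P).injective, e1, map_conj_Kr]
  have e1' : (Cfsg.Geo.omegaGL Q₁).map
      ((MulAut.conj P : GL (Fin n) F ≃* GL (Fin n) F).toMonoidHom) = Cfsg.Geo.omegaGL Q := e1
  rw [e1', e2] at h1
  exact h1

end Cfsg.Agent.S5704P
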