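import Cfsg.Agent.Helper24.S5704.Defs
import Cfsg.Agent.Helper24.S5637.Asm

set_option autoImplicit false
set_option linter.unusedSectionVars false
set_option linter.unusedVariables false

/-! # S5704, chapter NOTRANS' (helper24): if every element of `M` mapping some `V_z` onto some `V_{z'}` is a
Kronecker product (chapter STAR'), and `M` contains the root elements `XW z c`, then `M ≤ Kr e`. -/

namespace Cfsg.Agent.S5704P

open Matrix Cfsg.Agent.S5637P Cfsg.Agent.S5704S Cfsg.Agent.S5634P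

variable {F : Type*} [Field F] {n a b : ℕ} (e : Fin n ≃ Fin a × Fin b)

namespace NOTRANS

/-- `z ↦ bf GW w z` as a linear map -/
def bfL (GW : Matrix (Fin b) (Fin b) F) (w : Fin b → F) : (Fin b → F) →ₗ[F] F where
  toFun z := bf GW w z
  map_add' z z' := bf_add_right GW w z z'
  map_smul' c z := by rw [bf_smul_right, RingHom.id_apply, smul_eq_mul]

/-- `z ↦ c_{ψ_z} Y` as a linear map -/
def cpsL (GW : Matrix (Fin b) (Fin b) F) (Y : Fin n → F) : (Fin b → F) →ₗ[F] (Fin a → F) where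
  toFun z := cps e (psi GW z) Y
  map_add' z z' := by rw [psi_add, cps_add]
  map_smul' c z := by rw [psi_smul, cps_smul, RingHom.id_apply]

theorem psi_ne_zero {GW : Matrix (Fin b) (Fin b) F} (hW : IsSymp GW) {z : Fin b → F} (hz : z ≠ 0) :
    psi GW z ≠ 0 := by
  intro h
  apply hz
  apply hW.nondeg
  intro y
  apply hW.eq_zero_symm
  rw [← psi_dot, h, zero_dotProduct]

/-- EXT': raising the intersection number by one with a root element `XW z 1` -/
theorem EXT' (hab2 : a + 2 ≤ b) {GW : Matrix (Fin b) (Fin b) F} (hW : IsSymp GW)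
    (m : GL (Fin n) F) {w w' : Fin b → F} (hw : w ≠ 0) (hw' : w' ≠ 0)
    (d : ℕ) (hd : Module.finrank F ↥(gmap m (Vw e w) ⊓ Vw e w') = d) (h2 : d < a) :
    ∃ z : Fin b → F, z ≠ 0 ∧
      d + 1 ≤ Module.finrank F ↥(gmap (m * XW e GW z 1 * m⁻¹) (Vw e w') ⊓ Vw e w') := by
  classical
  set I : Submodule F (Fin n → F) := gmap m (Vw e w) ⊓ Vw e w' with hI
  have hX : ∃ X₁ ∈ Vw e w', X₁ ∉ I := by
    by_contra hcon
    push Not at hcon
    have hle : Vw e w' ≤ I := fun x hx => hcon x hx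
    have h3 := Submodule.finrank_mono hle
    rw [finrank_Vw e hw', hd] at h3
    omega
  obtain ⟨X₁, hX1, hX1I⟩ := hX
  set Y₁ : Fin n → F := ((m⁻¹ : GL (Fin n) F) : Matrix (Fin n) (Fin n) F) *ᵥ X₁ with hY₁
  set Φ : (Fin b → F) →ₗ[F] F × (Fin a → F) := LinearMap.prod (bfL GW w) (cpsL e GW Y₁) with hΦ
  have hdim : Module.finrank F (F × (Fin a → F)) < Module.finrank F (Fin b → F) := by
    rw [Module.finrank_prod, Module.finrank_self, Module.finrank_fin_fun, Module.finrank_fin_fun]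
    omega
  have hker : LinearMap.ker Φ ≠ ⊥ := LinearMap.ker_ne_bot_of_finrank_lt hdim
  obtain ⟨z, hzker, hz0⟩ := Submodule.exists_mem_ne_zero_of_ne_bot hker
  have hΦz : Φ z = 0 := LinearMap.mem_ker.mp hzker
  have hzw : bf GW w z = 0 := congrArg Prod.fst hΦz
  have hzY : cps e (psi GW z) Y₁ = 0 := congrArg Prod.snd hΦz
  refine ⟨z, hz0, ?_⟩
  set y : GL (Fin n) F := m * XW e GW z 1 * m⁻¹ with hy
  have hfix : ∀ v ∈ I, (y : Matrix (Fin n) (Fin n) F) *ᵥ v = v := by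
    intro v hv
    obtain ⟨x, hx, rfl⟩ := mem_gmap.mp hv.1
    obtain ⟨u, rfl⟩ := (mem_Vw e).mp hx
    rw [hy, EXT.conj_mulVec, EXT.inv_mul_mulVec, XW_mulVec_tn e hW, hzw, mul_zero, zero_smul,
      add_zero]
  have hyX : (y : Matrix (Fin n) (Fin n) F) *ᵥ X₁ = X₁ := by
    rw [hy, EXT.conj_mulVec, ← hY₁, XW_mulVec e hW, hzY, tn_zero_left, smul_zero, add_zero, hY₁,
      EXT.mul_inv_mulVec]
  have hlt : I < gmap y (Vw e w') ⊓ Vw e w' := by
    refine lt_of_le_of_ne ?_ ?_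
    · intro v hv
      exact ⟨mem_gmap.mpr ⟨v, hv.2, hfix v hv⟩, hv.2⟩
    · intro heq
      apply hX1I
      rw [heq]
      exact ⟨mem_gmap.mpr ⟨X₁, hX1, hyX⟩, hX1⟩
  have h3 := Submodule.finrank_lt_finrank_of_lt hlt
  rw [hd] at h3
  omega

end NOTRANS

open NOTRANS in
/-- NOTRANS': an overgroup of the root elements, all of whose elements mapping some `V_z` onto some
`V_{z'}` are Kronecker products, is contained in `Kr e` -/
theorem NOTRANS.main (ha : 1 ≤ a) (hab : a < b) (hab2 : a + 2 ≤ b)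
    {GW : Matrix (Fin b) (Fin b) F} (hW : IsSymp GW) (M : Subgroup (GL (Fin n) F))
    (hXW : ∀ (z : Fin b → F) (c : F), XW e GW z c ∈ M)
    (hSTAR : ∀ z z' : Fin b → F, z ≠ 0 → z' ≠ 0 → ∀ y : GL (Fin n) F, y ∈ M →
      gmap y (Vw e z) = Vw e z' → y ∈ Kr e) : M ≤ Kr e := by
  by_contra hcon
  obtain ⟨m₀, hm₀, hm₀K⟩ := SetLike.not_le_iff_exists.mp hcon
  -- K1: conjugates of root elements by elements outside `Kr e` stay outside
  have K1 : ∀ m : GL (Fin n) F, m ∈ M → m ∉ Kr e → ∀ z : Fin b → F, z ≠ 0 →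
      m * XW e GW z 1 * m⁻¹ ∈ M ∧ m * XW e GW z 1 * m⁻¹ ∉ Kr e := by
    intro m hm hmK z hz
    refine ⟨M.mul_mem (M.mul_mem hm (hXW z 1)) (M.inv_mem hm), fun hy => ?_⟩
    have hψ : (1 : F) • psi GW z ≠ 0 := by
      rw [one_smul]
      exact psi_ne_zero hW hz
    have h : ((1 : F) • psi GW z) ⬝ᵥ z = 0 := by
      rw [smul_dotProduct, psi_dot_self hW, smul_zero]
    obtain ⟨w₁, hw₁, hmw⟩ := CLASSIF e ha hab m hz hψ h hy
    exact hmK (hSTAR z w₁ hz hw₁ m hm hmw)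
  -- K2: the intersection numbers are `< a` outside `Kr e`
  have K2 : ∀ m : GL (Fin n) F, m ∈ M → m ∉ Kr e → ∀ w w' : Fin b → F, w ≠ 0 → w' ≠ 0 →
      Module.finrank F ↥(gmap m (Vw e w) ⊓ Vw e w') < a := by
    intro m hm hmK w w' hw hw'
    by_contra hge
    push Not at hge
    have h1 : Module.finrank F (gmap m (Vw e w)) = a := by rw [finrank_gmap, finrank_Vw e hw]
    have h2 : Module.finrank F (Vw e w') = a := finrank_Vw e hw'
    have e1 : gmap m (Vw e w) ⊓ Vw e w' = gmap m (Vw e w) :=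
      Submodule.eq_of_le_of_finrank_le inf_le_left (by rw [h1]; exact hge)
    have e2 : gmap m (Vw e w) ⊓ Vw e w' = Vw e w' :=
      Submodule.eq_of_le_of_finrank_le inf_le_right (by rw [h2]; exact hge)
    exact hmK (hSTAR w w' hw hw' m hm (e1.symm.trans e2))
  -- a non-zero vector of `F^b`
  have hb : 0 < b := by omega
  set w₀ : Fin b → F := Pi.single ⟨0, hb⟩ 1 with hw₀
  have hw₀ne : w₀ ≠ 0 := by
    intro h
    have := congrFun h ⟨0, hb⟩
    rw [hw₀, Pi.single_eq_same, Pi.zero_apply] at this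
    exact one_ne_zero this
  -- the induction
  have Q : ∀ k : ℕ, k ≤ a → ∃ m : GL (Fin n) F, m ∈ M ∧ m ∉ Kr e ∧
      ∃ w w' : Fin b → F, w ≠ 0 ∧ w' ≠ 0 ∧ k ≤ Module.finrank F ↥(gmap m (Vw e w) ⊓ Vw e w') := by
    intro k
    induction k with
    | zero =>
      intro _
      exact ⟨m₀, hm₀, hm₀K, w₀, w₀, hw₀ne, hw₀ne, Nat.zero_le _⟩
    | succ k ih =>
      intro hka
      obtain ⟨m, hm, hmK, w, w', hw, hw', hfin⟩ := ih (by omega)
      have hlt := K2 m hm hmK w w' hw hw'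
      obtain ⟨z, hz, hfin'⟩ := EXT' e hab2 hW m hw hw' _ rfl hlt
      obtain ⟨h1, h2⟩ := K1 m hm hmK z hz
      exact ⟨_, h1, h2, w', w', hw', hw', by omega⟩
  obtain ⟨m, hm, hmK, w, w', hw, hw', hfin⟩ := Q a le_rfl
  have := K2 m hm hmK w w' hw hw'
  omega

end Cfsg.Agent.S5704P
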